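import Mathlib.AlgebraicTopology.SimplicialSet.Homotopy

/-!
A combinatorial simplicial homotopy from a natural family of morphisms indexed by the simplices
of the interval.
-/

set_option autoImplicit false

open CategoryTheory Opposite Simplicial

universe v u

namespace Groth.Agent.SSetLib

variable {C : Type u} [Category.{v} C] {Y U : SimplicialObject C} {F G : Y ⟶ U}
  (H : ∀ {M : ℕ}, ((Δ[1] : SSet.{0}) _⦋M⦌) → (Y _⦋M⦌ ⟶ U _⦋M⦌))
  (hnat : ∀ {M M' : ℕ} (ψ : ⦋M'⦌ ⟶ ⦋M⦌) (t : (Δ[1] : SSet.{0}) _⦋M⦌),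
    H t ≫ U.map ψ.op = Y.map ψ.op ≫ H ((Δ[1] : SSet.{0}).map ψ.op t))
  (h0 : ∀ {M : ℕ} (t : (Δ[1] : SSet.{0}) _⦋M⦌), (∀ j : Fin (M + 1), t j = 0) →
    H t = F.app (op ⦋M⦌))
  (h1 : ∀ {M : ℕ} (t : (Δ[1] : SSet.{0}) _⦋M⦌), (∀ j : Fin (M + 1), t j = 1) →
    H t = G.app (op ⦋M⦌))

include hnat in
lemma H_δ {M : ℕ} (t : (Δ[1] : SSet.{0}) _⦋M + 1⦌) (j : Fin (M + 2)) :
    H t ≫ U.δ j = Y.δ j ≫ H ((Δ[1] : SSet.{0}).δ j t) := hnat _ t

include hnat in
lemma H_σ {M : ℕ} (t : (Δ[1] : SSet.{0}) _⦋M⦌) (j : Fin (M + 1)) :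
    H t ≫ U.σ j = Y.σ j ≫ H ((Δ[1] : SSet.{0}).σ j t) := hnat _ t

include hnat h0 h1 in
open SSet.stdSimplex in
/-- The combinatorial homotopy. -/
noncomputable def homotopyOfFamily : SimplicialObject.Homotopy F G where
  h {p} i := Y.σ i ≫ H (objMk₁.{0} i.succ.castSucc)
  h_zero_comp_δ_zero p := by
    rw [Category.assoc, H_δ H hnat, ← Category.assoc]
    erw [Y.δ_comp_σ_self (i := (0 : Fin (p + 1)))]
    rw [Category.id_comp, h1]
    intro j
    rw [δ_objMk₁_of_lt _ _ (by simp)]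
    exact objMk₁_of_le_castSucc _ _ (by simp)
  h_last_comp_δ_last p := by
    rw [Category.assoc, H_δ H hnat, ← Category.assoc, ← Fin.succ_last]
    erw [Y.δ_comp_σ_succ (i := Fin.last p)]
    rw [Category.id_comp, h0]
    intro j
    rw [δ_objMk₁_of_le _ _ (by simp)]
    exact objMk₁_of_castSucc_lt _ _ (by simp [Fin.castSucc_lt_last])
  h_succ_comp_δ_castSucc_of_lt {p} i j hij := by
    rw [Category.assoc, H_δ H hnat, ← Category.assoc, Y.δ_comp_σ_of_le hij, Category.assoc]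
    rw [δ_objMk₁_of_lt _ _ ?_]
    · congr 3
    · simp only [Fin.castSucc_lt_castSucc_iff]
      simp only [Fin.le_def, Fin.lt_def, Fin.val_castSucc, Fin.val_succ] at *
      lia
  h_succ_comp_δ_castSucc_succ {p} j := by
    rw [Category.assoc, Category.assoc, H_δ H hnat, H_δ H hnat, ← Category.assoc, ← Category.assoc,
      Fin.succ_castSucc]
    erw [Y.δ_comp_σ_self (i := j.succ), Y.δ_comp_σ_succ (i := j.castSucc)]
    rw [δ_objMk₁_of_lt _ _ (by simp [Fin.lt_def]), δ_objMk₁_of_le _ _ (by simp [Fin.le_def])]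
    congr 3
  h_castSucc_comp_δ_succ_of_lt {p} i j hji := by
    rw [Category.assoc, H_δ H hnat, ← Category.assoc, Y.δ_comp_σ_of_gt hji, Category.assoc]
    rw [δ_objMk₁_of_le _ _ ?_]
    · congr 3
    · simp only [Fin.le_def, Fin.lt_def, Fin.val_castSucc, Fin.val_succ] at *
      lia
  h_comp_σ_castSucc_of_le {p} i j hij := by
    rw [Category.assoc, H_σ H hnat, ← Category.assoc, Y.σ_comp_σ hij, Category.assoc]
    rw [σ_objMk₁_of_lt _ _ ?_]
    · congr 3
    · simp only [Fin.le_def, Fin.lt_def, Fin.val_castSucc, Fin.val_succ] at *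
      lia
  h_comp_σ_succ_of_lt {p} i j hji := by
    rw [Category.assoc, H_σ H hnat, ← Category.assoc, ← Y.σ_comp_σ hji, Category.assoc]
    rw [σ_objMk₁_of_le _ _ ?_]
    · congr 3
    · simp only [Fin.le_def, Fin.lt_def, Fin.val_castSucc, Fin.val_succ] at *
      lia


end Groth.Agent.SSetLib
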