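import Mathlib.AlgebraicTopology.SimplicialSet.Coskeletal
import Mathlib.AlgebraicTopology.SimplicialSet.Homotopy
import Groth.Agent.SSetLib.HomotopyFamily
import Mathlib.CategoryTheory.Limits.Shapes.FiniteLimits
import Mathlib.Data.Finite.Sigma

/-!
Coskeletal simplicial objects through a unique lifting property, and the homotopy between two
morphisms into an `n`-coskeletal object agreeing in degrees `< n`.
-/

set_option autoImplicit false

open CategoryTheory CategoryTheory.Limits Opposite Simplicial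

universe w v u

namespace Groth.Agent.SSetLib

variable {C : Type u} [Category.{v} C]

/-- Compatible families of morphisms to the simplices of dimension `≤ n` under `⦋M⦌` lift uniquely. -/
def UniqueLift (U : SimplicialObject C) (n : ℕ) : Prop :=
  ∀ (M : ℕ) (T : C) (e : ∀ k : ℕ, k ≤ n → (⦋k⦌ ⟶ ⦋M⦌) → (T ⟶ U _⦋k⦌)),
    (∀ k k' (hk : k ≤ n) (hk' : k' ≤ n) (ψ : ⦋k'⦌ ⟶ ⦋k⦌) (φ : ⦋k⦌ ⟶ ⦋M⦌),
      e k' hk' (ψ ≫ φ) = e k hk φ ≫ U.map ψ.op) →
    ∃! g : T ⟶ U _⦋M⦌, ∀ k (hk : k ≤ n) (φ : ⦋k⦌ ⟶ ⦋M⦌), g ≫ U.map φ.op = e k hk φ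

open SimplexCategory in
lemma uniqueLift_of_pointwise {U : SimplicialObject C} {n : ℕ}
    (h : (SimplicialObject.Truncated.rightExtensionInclusion U n).IsPointwiseRightKanExtension) :
    UniqueLift U n := by
  intro M T e he
  let c : Cone (StructuredArrow.proj (op ⦋M⦌) (Truncated.inclusion n).op ⋙
      (Truncated.inclusion n).op ⋙ U) :=
    { pt := T
      π :=
        { app := fun j => e j.right.unop.1.len j.right.unop.2 j.hom.unop
          naturality := fun j j' α => by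
            have hw : (α.right.unop.hom) ≫ j.hom.unop = j'.hom.unop := by
              rw [← StructuredArrow.w α]
              rfl
            dsimp
            rw [Category.id_comp, ← hw]
            exact he _ _ _ _ α.right.unop.hom j.hom.unop } }
  refine ⟨(h (op ⦋M⦌)).lift c, fun k hk φ => ?_, fun g hg => ?_⟩
  · have := (h (op ⦋M⦌)).fac c (StructuredArrow.mk (Y := op (⟨⦋k⦌, hk⟩ : SimplexCategory.Truncated n)) φ.op)
    exact (congrArg (_ ≫ ·) (Category.comp_id _).symm).trans this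
  · refine (h (op ⦋M⦌)).hom_ext fun j => ?_
    rw [(h (op ⦋M⦌)).fac c j]
    exact (congrArg (g ≫ ·) (Category.comp_id _)).trans (hg j.right.unop.1.len j.right.unop.2 j.hom.unop)

open SimplexCategory in
lemma isCoskeletal_of_uniqueLift {U : SimplicialObject C} {n : ℕ} (h : UniqueLift U n) :
    U.IsCoskeletal n where
  isRightKanExtension := by
    refine Functor.RightExtension.IsPointwiseRightKanExtension.isRightKanExtension
      (E := SimplicialObject.Truncated.rightExtensionInclusion U n) (fun x => ?_)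
    change Functor.RightExtension.IsPointwiseRightKanExtensionAt _ (op ⦋x.unop.len⦌)
    generalize x.unop.len = M
    let e (c : Cone (StructuredArrow.proj (op ⦋M⦌) (Truncated.inclusion n).op ⋙
      (Truncated.inclusion n).op ⋙ U)) (k : ℕ) (hk : k ≤ n) (φ : ⦋k⦌ ⟶ ⦋M⦌) : c.pt ⟶ U _⦋k⦌ :=
      c.π.app (StructuredArrow.mk (Y := op (⟨⦋k⦌, hk⟩ : SimplexCategory.Truncated n)) φ.op)
    have he : ∀ c k k' (hk : k ≤ n) (hk' : k' ≤ n) (ψ : ⦋k'⦌ ⟶ ⦋k⦌) (φ : ⦋k⦌ ⟶ ⦋M⦌),
        e c k' hk' (ψ ≫ φ) = e c k hk φ ≫ U.map ψ.op := by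
      intro c k k' hk hk' ψ φ
      exact (c.w (StructuredArrow.homMk (f := StructuredArrow.mk (Y := op (⟨⦋k⦌, hk⟩ : SimplexCategory.Truncated n)) φ.op)
        (f' := StructuredArrow.mk (Y := op (⟨⦋k'⦌, hk'⟩ : SimplexCategory.Truncated n)) (ψ ≫ φ).op)
        (Quiver.Hom.op (Truncated.Hom.tr ψ)) rfl)).symm
    exact
      { lift := fun c => (h M c.pt (e c) (he c)).exists.choose
        fac := fun c j => by
          have := (h M c.pt (e c) (he c)).exists.choose_spec j.right.unop.1.len j.right.unop.2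
            j.hom.unop
          exact (congrArg (_ ≫ ·) (Category.comp_id _)).trans this
        uniq := fun c g hg => by
          refine (h M c.pt (e c) (he c)).unique (fun k hk φ => ?_)
            (h M c.pt (e c) (he c)).exists.choose_spec
          exact (congrArg (g ≫ ·) (Category.comp_id _).symm).trans (hg (StructuredArrow.mk (Y := op (⟨⦋k⦌, hk⟩ : SimplexCategory.Truncated n)) φ.op)) }

lemma hasPointwiseRightKanExtension [HasFiniteLimits C] (m : ℕ)
    (F : (SimplexCategory.Truncated m)ᵒᵖ ⥤ C) :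
    (SimplexCategory.Truncated.inclusion m).op.HasPointwiseRightKanExtension F := by
  intro x
  have : Finite ((SimplexCategory.Truncated m)ᵒᵖ) := by
    refine Finite.of_injective
      (fun a => (⟨a.unop.1.len, Nat.lt_succ_of_le a.unop.2⟩ : Fin (m + 1))) ?_
    rintro ⟨⟨a, ha⟩⟩ ⟨⟨b, hb⟩⟩ h
    have : a = b := SimplexCategory.ext (congrArg Fin.val h)
    subst this; rfl
  have : ∀ (a b : SimplexCategoryᵒᵖ), Finite (a ⟶ b) := fun a b =>
    Finite.of_equiv _ (opEquiv a b).symm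
  have : ∀ b : (SimplexCategory.Truncated m)ᵒᵖ,
      Finite (x ⟶ (SimplexCategory.Truncated.inclusion m).op.obj b) := fun b => this _ _
  have hf : Finite (StructuredArrow x (SimplexCategory.Truncated.inclusion m).op) :=
    Finite.of_injective (fun f => (⟨f.right, f.hom⟩ :
      Σ b : (SimplexCategory.Truncated m)ᵒᵖ,
        x ⟶ (SimplexCategory.Truncated.inclusion m).op.obj b)) (by
      intro f g h
      obtain ⟨⟨⟨⟩⟩, r, φ⟩ := f
      obtain ⟨⟨⟨⟩⟩, r', φ'⟩ := g
      simp only [Sigma.mk.injEq] at h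
      obtain ⟨rfl, h⟩ := h
      cases h; rfl)
  have : ∀ (a b : StructuredArrow x (SimplexCategory.Truncated.inclusion m).op),
      Finite (a ⟶ b) := by
    intro a b
    refine Finite.of_injective (fun φ => φ.right.unop.hom) fun φ ψ h => ?_
    ext
    exact Quiver.Hom.unop_inj (InducedCategory.hom_ext h)
  let : FinCategory (StructuredArrow x (SimplexCategory.Truncated.inclusion m).op) :=
    ⟨Fintype.ofFinite _, fun _ _ => Fintype.ofFinite _⟩
  change HasLimit _
  infer_instance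

lemma uniqueLift [HasFiniteLimits C] (U : SimplicialObject C) (n : ℕ) [U.IsCoskeletal n] :
    UniqueLift U n := by
  have := hasPointwiseRightKanExtension n ((SimplexCategory.Truncated.inclusion n).op ⋙ U)
  exact uniqueLift_of_pointwise
    (Functor.isPointwiseRightKanExtensionOfIsRightKanExtension U (𝟙 _))

lemma isCoskeletal_cosk_obj [HasFiniteLimits C] (n : ℕ)
    [∀ F : (SimplexCategory.Truncated n)ᵒᵖ ⥤ C,
      (SimplexCategory.Truncated.inclusion n).op.HasRightKanExtension F]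
    (T : SimplicialObject.Truncated C n) :
    SimplicialObject.IsCoskeletal ((SimplicialObject.Truncated.cosk n).obj T) n := by
  rw [SimplicialObject.isCoskeletal_iff_isIso]
  have := (SimplicialObject.coskAdj (C := C) n).right_triangle_components T
  have := hasPointwiseRightKanExtension (C := C) n
  have := SimplicialObject.Truncated.cosk_reflective (C := C) n
  refine ⟨(SimplicialObject.Truncated.cosk n).map ((SimplicialObject.coskAdj n).counit.app T),
    (SimplicialObject.coskAdj (C := C) n).right_triangle_components T, ?_⟩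
  rw [← cancel_mono ((SimplicialObject.Truncated.cosk n).map
    ((SimplicialObject.coskAdj n).counit.app T)), Category.assoc,
    (SimplicialObject.coskAdj (C := C) n).right_triangle_components]
  exact (Category.comp_id _).trans (Category.id_comp _).symm

section

variable {U : SimplicialObject C} {n : ℕ} (hU : UniqueLift U n)
include hU

lemma hom_ext_of_le {M : ℕ} {T : C} {g g' : T ⟶ U _⦋M⦌}
    (h : ∀ k, k ≤ n → ∀ φ : ⦋k⦌ ⟶ ⦋M⦌, g ≫ U.map φ.op = g' ≫ U.map φ.op) : g = g' :=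
  (hU M T (fun k _ φ => g ≫ U.map φ.op) (by simp [← Functor.map_comp])).unique
    (fun _ _ _ => rfl) (fun k hk φ => (h k hk φ).symm)

lemma natTrans_ext {W : SimplicialObject C} {η η' : W ⟶ U}
    (h : ∀ k, k ≤ n → η.app (op ⦋k⦌) = η'.app (op ⦋k⦌)) : η = η' := by
  ext M
  obtain ⟨M⟩ := M
  obtain ⟨M, rfl⟩ : ∃ m, ⦋m⦌ = M := ⟨_, M.mk_len⟩
  refine hom_ext_of_le hU fun k hk φ => ?_
  rw [← η.naturality, ← η'.naturality, h k hk]

lemma exists_extension {W : SimplicialObject C} (η : ∀ k, k ≤ n → (W _⦋k⦌ ⟶ U _⦋k⦌))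
    (hη : ∀ k k' (hk : k ≤ n) (hk' : k' ≤ n) (ψ : ⦋k'⦌ ⟶ ⦋k⦌),
      W.map ψ.op ≫ η k' hk' = η k hk ≫ U.map ψ.op) :
    ∃ f : W ⟶ U, ∀ k (hk : k ≤ n), f.app (op ⦋k⦌) = η k hk := by
  have key := fun M => (hU M (W _⦋M⦌) (fun k hk φ => W.map φ.op ≫ η k hk)
    (fun k k' hk hk' ψ φ => by
      simp only [op_comp, Functor.map_comp, Category.assoc, hη k k' hk hk' ψ])).exists
  choose g hg using key
  refine ⟨{ app := fun M => g M.unop.len, naturality := ?_ }, fun k hk => ?_⟩
  · rintro ⟨M⟩ ⟨M'⟩ ψ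
    obtain ⟨M, rfl⟩ : ∃ m, ⦋m⦌ = M := ⟨_, M.mk_len⟩
    obtain ⟨M', rfl⟩ : ∃ m, ⦋m⦌ = M' := ⟨_, M'.mk_len⟩
    change W.map ψ ≫ g M' = g M ≫ U.map ψ
    obtain ⟨ψ, rfl⟩ : ∃ ψ' : ⦋M'⦌ ⟶ ⦋M⦌, ψ = ψ'.op := ⟨ψ.unop, rfl⟩
    refine hom_ext_of_le hU fun k hk φ => ?_
    rw [Category.assoc, hg _ k hk, Category.assoc, ← Functor.map_comp, ← op_comp, hg _ k hk, op_comp,
      Functor.map_comp, Category.assoc]
  · have := hg k k hk (𝟙 _)
    simpa using this

end

/-- Universe-generic notation for the simplices of the interval. -/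
abbrev Ivl (k : ℕ) : Type w := (Δ[1] : SSet.{w}) _⦋k⦌

section Homotopy

variable {Y U : SimplicialObject C} {n : ℕ} (hU : UniqueLift U n) (F G : Y ⟶ U)

open Classical in
/-- The component of the homotopy in small degree. -/
noncomputable def comp {k : ℕ} (t : Ivl.{w} k) : Y _⦋k⦌ ⟶ U _⦋k⦌ :=
  if ∀ j : Fin (k + 1), t j = 1 then G.app (op ⦋k⦌) else F.app (op ⦋k⦌)

variable {F G} (hFG : ∀ p, p < n → F.app (op ⦋p⦌) = G.app (op ⦋p⦌))
include hFG

lemma map_comp_eq {k k' : ℕ} (hk : k ≤ n) (hk' : k' ≤ n) (ψ : ⦋k'⦌ ⟶ ⦋k⦌)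
    (hψ : ¬ Function.Surjective ψ.toOrderHom) :
    Y.map ψ.op ≫ F.app (op ⦋k'⦌) = Y.map ψ.op ≫ G.app (op ⦋k'⦌) := by
  rcases hk'.lt_or_eq with hlt | rfl
  · rw [hFG k' hlt]
  rcases hk.lt_or_eq with hlt | rfl
  · rw [F.naturality, G.naturality, hFG k hlt]
  cases k with
  | zero => exact absurd (fun j => ⟨0, Fin.ext (by have := j.isLt; simp at this ⊢)⟩) hψ
  | succ m =>
    obtain ⟨i, θ, rfl⟩ := SimplexCategory.eq_comp_δ_of_not_surjective ψ hψ
    rw [op_comp, Functor.map_comp, Category.assoc, Category.assoc, F.naturality, G.naturality,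
      hFG m (Nat.lt_succ_self m)]

lemma comp_natural {k k' : ℕ} (hk : k ≤ n) (hk' : k' ≤ n) (ψ : ⦋k'⦌ ⟶ ⦋k⦌) (t : Ivl.{w} k) :
    Y.map ψ.op ≫ comp F G ((Δ[1] : SSet.{w}).map ψ.op t) = comp F G t ≫ U.map ψ.op := by
  have happ : ∀ j, (Δ[1] : SSet.{w}).map ψ.op t j = t (ψ.toOrderHom j) := fun j => rfl
  by_cases h : ∀ j : Fin (k + 1), t j = 1
  · rw [comp, if_pos (fun j => by rw [happ]; exact h _), comp, if_pos h, G.naturality]
  · rw [show comp F G t = F.app _ from if_neg h, ← F.naturality]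
    by_cases h' : ∀ j, (Δ[1] : SSet.{w}).map ψ.op t j = 1
    · rw [comp, if_pos h']
      refine (map_comp_eq hFG hk hk' ψ fun hs => h fun j => ?_).symm
      obtain ⟨i, rfl⟩ := hs j
      rw [← happ]; exact h' i
    · rw [comp, if_neg h']

include hU

lemma exists_hom {M : ℕ} (t : Ivl.{w} M) : ∃ g : Y _⦋M⦌ ⟶ U _⦋M⦌,
    ∀ k, k ≤ n → ∀ φ : ⦋k⦌ ⟶ ⦋M⦌,
      g ≫ U.map φ.op = Y.map φ.op ≫ comp F G ((Δ[1] : SSet.{w}).map φ.op t) :=
  (hU M _ (fun k _ φ => Y.map φ.op ≫ comp F G ((Δ[1] : SSet.{w}).map φ.op t))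
    fun k k' hk hk' ψ φ => by
      rw [op_comp, Functor.map_comp, Category.assoc, Category.assoc,
        ← comp_natural hFG hk hk' ψ, ← Functor.map_comp_apply]).exists

/-- The homotopy as a family indexed by simplices of the interval. -/
noncomputable def hom {M : ℕ} (t : Ivl.{w} M) : Y _⦋M⦌ ⟶ U _⦋M⦌ :=
  (exists_hom hU hFG t).choose

lemma hom_natural {M M' : ℕ} (ψ : ⦋M'⦌ ⟶ ⦋M⦌) (t : Ivl.{w} M) :
    hom hU hFG t ≫ U.map ψ.op = Y.map ψ.op ≫ hom hU hFG ((Δ[1] : SSet.{w}).map ψ.op t) := by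
  refine hom_ext_of_le hU fun k hk φ => ?_
  rw [Category.assoc, ← Functor.map_comp, ← op_comp, hom,
    (exists_hom hU hFG t).choose_spec k hk, Category.assoc, hom,
    (exists_hom hU hFG _).choose_spec k hk, ← Functor.map_comp_apply, op_comp,
    Functor.map_comp, Category.assoc]

lemma hom_of_one {M : ℕ} (t : Ivl.{w} M) (ht : ∀ j : Fin (M + 1), t j = 1) :
    hom hU hFG t = G.app (op ⦋M⦌) := by
  refine hom_ext_of_le hU fun k hk φ => ?_
  rw [hom, (exists_hom hU hFG t).choose_spec k hk, comp, if_pos, G.naturality]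
  exact fun j => ht _

lemma hom_of_zero {M : ℕ} (t : Ivl.{w} M) (ht : ∀ j : Fin (M + 1), t j = 0) :
    hom hU hFG t = F.app (op ⦋M⦌) := by
  refine hom_ext_of_le hU fun k hk φ => ?_
  rw [hom, (exists_hom hU hFG t).choose_spec k hk, comp, if_neg, F.naturality]
  intro h
  exact zero_ne_one ((ht (φ.toOrderHom 0)).symm.trans (h 0))

/-- The combinatorial homotopy. -/
noncomputable def homotopy : SimplicialObject.Homotopy F G :=
  homotopyOfFamily (fun {_} t => hom hU hFG t) (fun ψ t => hom_natural hU hFG ψ t)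
    (fun t ht => hom_of_zero hU hFG t ht) (fun t ht => hom_of_one hU hFG t ht)

end Homotopy

end Groth.Agent.SSetLib
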