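import Groth.Agent.SSetLib.GroupFill
import Mathlib.Algebra.Category.Grp.Abelian
import Mathlib.AlgebraicTopology.SimplicialObject.Basic

/-!
Horn fillers in simplicial abelian groups, inside the kernel of a homomorphism.
-/

set_option autoImplicit false

open CategoryTheory Opposite Simplicial

universe u

namespace Groth.Agent.SSetLib

variable {X Y : SimplicialObject AddCommGrpCat.{u}} (f : X ⟶ Y)

/-- The kernel in degree `n`. -/
def kerAt (n : ℕ) : AddSubgroup (X _⦋n⦌) := (f.app (op ⦋n⦌)).hom.ker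

lemma mem_kerAt {n : ℕ} {x : X _⦋n⦌} : x ∈ kerAt f n ↔ f.app (op ⦋n⦌) x = 0 := Iff.rfl

lemma app_δ {n : ℕ} (j : Fin (n + 2)) (x : X _⦋n + 1⦌) :
    f.app (op ⦋n⦌) (X.δ j x) = Y.δ j (f.app (op ⦋n + 1⦌) x) :=
  ConcreteCategory.congr_hom (f.naturality (SimplexCategory.δ j).op) x

lemma δ_mem_kerAt {n : ℕ} (j : Fin (n + 2)) {x : X _⦋n + 1⦌} (hx : x ∈ kerAt f (n + 1)) :
    X.δ j x ∈ kerAt f n := by
  rw [mem_kerAt] at hx ⊢
  rw [app_δ, hx, map_zero]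

lemma σ_mem_kerAt {n : ℕ} (j : Fin (n + 1)) {x : X _⦋n⦌} (hx : x ∈ kerAt f n) :
    X.σ j x ∈ kerAt f (n + 1) := by
  rw [mem_kerAt] at hx ⊢
  rw [show f.app (op ⦋n + 1⦌) (X.σ j x) = Y.σ j (f.app (op ⦋n⦌) x) from
    ConcreteCategory.congr_hom (f.naturality (SimplexCategory.σ j).op) x, hx, map_zero]

lemma δ_δ_apply (X : SimplicialObject AddCommGrpCat.{u}) {n : ℕ} {i j : Fin (n + 2)} (h : i ≤ j)
    (x : X _⦋n + 2⦌) : X.δ i (X.δ j.succ x) = X.δ j (X.δ i.castSucc x) :=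
  ConcreteCategory.congr_hom (X.δ_comp_δ h) x

/-- A horn in the kernel has a filler in the kernel. -/
theorem exists_fill_ker {n : ℕ} (k : Fin (n + 3)) (y : Fin (n + 3) → X _⦋n + 1⦌)
    (hyT : ∀ r, r ≠ k → y r ∈ kerAt f (n + 1))
    (hy : ∀ (i j : Fin (n + 2)), i ≤ j → i.castSucc ≠ k → j.succ ≠ k →
      X.δ i (y j.succ) = X.δ j (y i.castSucc)) :
    ∃ g ∈ kerAt f (n + 2), ∀ r, r ≠ k → X.δ r g = y r :=
  exists_addFill (A := X _⦋n + 2⦌) (B := X _⦋n + 1⦌) (C := X _⦋n⦌)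
    (fun r => (X.δ r).hom) (fun r => (X.δ r).hom) (fun r => (X.σ r).hom) (fun r => (X.σ r).hom)
    (fun j x => ConcreteCategory.congr_hom X.δ_comp_σ_self x)
    (fun j x => ConcreteCategory.congr_hom X.δ_comp_σ_succ x)
    (fun i j h x => ConcreteCategory.congr_hom (X.δ_comp_σ_of_le h) x)
    (fun i j h x => ConcreteCategory.congr_hom (X.δ_comp_σ_of_gt h) x)
    (fun i j h x => δ_δ_apply X h x) _ _ (fun j _ hx => δ_mem_kerAt f j hx)
    (fun j _ hx => σ_mem_kerAt f j hx) k y hyT hy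

/-- The lifting property against horns of a surjective homomorphism, in terms of simplices. -/
theorem exists_horn_lift {n : ℕ} (k : Fin (n + 3)) (y : Fin (n + 3) → X _⦋n + 1⦌)
    (b : Y _⦋n + 2⦌) (hb : ∃ x, f.app (op ⦋n + 2⦌) x = b)
    (hyb : ∀ r, r ≠ k → f.app (op ⦋n + 1⦌) (y r) = Y.δ r b)
    (hy : ∀ (i j : Fin (n + 2)), i ≤ j → i.castSucc ≠ k → j.succ ≠ k →
      X.δ i (y j.succ) = X.δ j (y i.castSucc)) :
    ∃ g, f.app (op ⦋n + 2⦌) g = b ∧ ∀ r, r ≠ k → X.δ r g = y r := by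
  obtain ⟨x, rfl⟩ := hb
  obtain ⟨g, hg, hgy⟩ := exists_fill_ker f k (fun r => y r - X.δ r x)
    (fun r hr => by rw [mem_kerAt, map_sub, hyb r hr, app_δ, sub_self])
    (fun i j hij hi hj => by rw [map_sub, map_sub, hy i j hij hi hj, δ_δ_apply X hij])
  refine ⟨x + g, ?_, fun r hr => ?_⟩
  · rw [map_add, (mem_kerAt f).mp hg, add_zero]
  · rw [map_add, hgy r hr, add_sub_cancel]

end Groth.Agent.SSetLib
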