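import Groth.Agent.SSetLib.AbCx
import Mathlib.AlgebraicTopology.DoldKan.HomotopyEquivalence
import Mathlib.Algebra.Category.Grp.ZModuleEquivalence

/-!
Normalized cycles in the alternating face map complex of a simplicial abelian group.
-/

set_option autoImplicit false

open CategoryTheory CategoryTheory.Limits Opposite Simplicial AlgebraicTopology
  AlgebraicTopology.DoldKan

universe u

namespace Groth.Agent.SSetLib

variable {X : SimplicialObject AddCommGrpCat.{u}}

/-- The alternating face map complex. -/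
abbrev Alt (X : SimplicialObject AddCommGrpCat.{u}) : ChainComplex AddCommGrpCat.{u} ℕ :=
  (alternatingFaceMapComplex AddCommGrpCat.{u}).obj X

/-- All faces but the `0`-th one vanish. -/
def IsNorm : ∀ {n : ℕ}, (Alt X).X n → Prop
  | 0, _ => True
  | n + 1, x => ∀ j : Fin (n + 1), X.δ j.succ x = 0

lemma d_apply_of_isNorm {n : ℕ} {x : (Alt X).X (n + 1)} (hx : IsNorm x) :
    (Alt X).d (n + 1) n x = X.δ 0 x := by
  rw [alternatingFaceMapComplex_obj_d, AlternatingFaceMapComplex.objD, ← AddCommGrpCat.homAddEquiv_apply,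
    map_sum, AddMonoidHom.finsetSum_apply, Finset.sum_eq_single (0 : Fin (n + 2))]
  · simp
  · intro j _ hj
    obtain ⟨i, rfl⟩ := Fin.eq_succ_of_ne_zero hj
    rw [map_zsmul]
    exact (congrArg _ (hx i)).trans (zsmul_zero _)
  · simp

/-- An element as a morphism from the integers. -/
noncomputable def eltHom {A : AddCommGrpCat.{u}} (x : A) :
    AddCommGrpCat.of (ULift.{u} ℤ) ⟶ A :=
  AddCommGrpCat.ofHom ((zmultiplesHom A x).comp AddEquiv.ulift.toAddMonoidHom)

lemma eltHom_one {A : AddCommGrpCat.{u}} (x : A) : eltHom x (ULift.up 1) = x := by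
  show (1 : ℤ) • x = x
  exact one_zsmul x

lemma isNorm_PInfty {n : ℕ} (x : (Alt X).X n) : IsNorm ((PInfty : Alt X ⟶ Alt X).f n x) := by
  cases n with
  | zero => trivial
  | succ n =>
    intro j
    have h := HigherFacesVanish.of_P (X := X) (n + 1) n j (by omega)
    exact ConcreteCategory.congr_hom h x

lemma PInfty_apply_of_isNorm {n : ℕ} {x : (Alt X).X n} (hx : IsNorm x) :
    (PInfty : Alt X ⟶ Alt X).f n x = x := by
  cases n with
  | zero => rw [PInfty_f_0]; rfl
  | succ n =>
    have h : HigherFacesVanish (n + 1) (eltHom x : _ ⟶ X _⦋n + 1⦌) := by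
      intro j _
      ext t
      show X.δ j.succ ((AddEquiv.ulift t : ℤ) • x) = 0
      rw [map_zsmul]
      exact (congrArg _ (hx j)).trans (zsmul_zero _)
    have := ConcreteCategory.congr_hom h.comp_P_eq_self (ULift.up (1 : ℤ))
    rw [PInfty_f]
    exact ((congrArg (fun a => ((P (n + 1)).f (n + 1) : (Alt X).X (n + 1) ⟶ (Alt X).X (n + 1)) a)
      (eltHom_one x)).symm.trans this).trans (eltHom_one x)

lemma isBd_self_sub_PInfty {n : ℕ} {z : (Alt X).X n} (hz : AbCx.IsCyc z) :
    AbCx.IsBd (K := Alt X) (z - (id ((PInfty : Alt X ⟶ Alt X).f n z) : (Alt X).X n)) := by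
  obtain ⟨c, rfl⟩ := AbCx.exists_cycle hz
  simp only [id]
  erw [← AbCx.iCycles_cyclesMap, ← map_sub, ← AbCx.homologyπ_eq_zero_iff, map_sub,
    ← AbCx.homologyMap_π, (homotopyPInftyToId X).homologyMap_eq, HomologicalComplex.homologyMap_id]
  exact sub_self _

lemma exists_norm_bd {n : ℕ} {z : (Alt X).X n} (hz : IsNorm z) (hb : AbCx.IsBd z) :
    ∃ c : (Alt X).X (n + 1), IsNorm c ∧ X.δ 0 c = z := by
  obtain ⟨c, rfl⟩ := hb
  refine ⟨_, isNorm_PInfty c, ?_⟩
  rw [← d_apply_of_isNorm (isNorm_PInfty c)]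
  exact (ConcreteCategory.congr_hom ((PInfty : Alt X ⟶ Alt X).comm (n + 1) n) c).trans
    (PInfty_apply_of_isNorm hz)

lemma isCyc_of_δ_eq_zero {n : ℕ} {z : (Alt X).X (n + 1)} (h : ∀ j, X.δ j z = 0) : AbCx.IsCyc z :=
  AbCx.isCyc_succ.mpr ((d_apply_of_isNorm fun j => h j.succ).trans (h 0))

end Groth.Agent.SSetLib
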