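import Mathlib.AlgebraicTopology.SimplicialSet.Skeleton
import Mathlib.AlgebraicTopology.SimplicialSet.Dimension

/-!
Skeleta of simplicial sets: the left adjoint of truncation and the subcomplex of low simplices.
-/

set_option autoImplicit false

universe u

open CategoryTheory Opposite
open scoped Simplicial

namespace Groth.Agent.SSetLib.SkelSet

variable {X Y : SSet.{u}} {n : ℕ}

lemma exists_comp_ι {V : SSet.Truncated.{u} n} (f : (SSet.Truncated.sk n).obj V ⟶ X) :
    ∃ g : (SSet.Truncated.sk n).obj V ⟶ (X.skeleton (n + 1) : SSet), g ≫ (X.skeleton (n + 1)).ι = f := by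
  have : IsIso ((SSet.truncation n).map (X.skeleton (n + 1)).ι) := by
    have : ∀ Δ, IsIso (((SSet.truncation n).map (X.skeleton (n + 1)).ι).app Δ) := fun Δ => by
      rw [isIso_iff_bijective]
      refine ⟨fun x y h => Subtype.ext h, fun x => ⟨⟨x, ?_⟩, rfl⟩⟩
      exact X.mem_skeleton (i := Δ.unop.obj.len) x (Nat.lt_succ_of_le Δ.unop.property)
    exact NatIso.isIso_of_isIso_app _
  let adj := SSet.skAdj.{u} n
  refine ⟨(adj.homEquiv _ _).symm (adj.homEquiv _ _ f ≫
    inv ((SSet.truncation n).map (X.skeleton (n + 1)).ι)), ?_⟩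
  rw [← adj.homEquiv_naturality_right_symm, Category.assoc, IsIso.inv_hom_id, Category.comp_id,
    Equiv.symm_apply_apply]

lemma app_mem_skeleton {V : SSet.Truncated.{u} n} (f : (SSet.Truncated.sk n).obj V ⟶ X) (k : ℕ)
    (x : ((SSet.Truncated.sk n).obj V).obj (op ⦋k⦌)) :
    f.app (op ⦋k⦌) x ∈ (X.skeleton (n + 1)).obj (op ⦋k⦌) := by
  obtain ⟨g, hg⟩ := exists_comp_ι f
  subst hg
  exact (g.app (op ⦋k⦌) x).2

theorem hasDimensionLT_sk (V : SSet.Truncated.{u} n) :
    ((SSet.Truncated.sk n).obj V).HasDimensionLT (n + 1) := ⟨fun k hk => by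
  refine Set.eq_univ_of_forall fun x => ?_
  rw [SSet.mem_degenerate_iff_notMem_nonDegenerate]
  intro hx
  have h := app_mem_skeleton (𝟙 ((SSet.Truncated.sk n).obj V)) k x
  have := (SSet.mem_skeleton_obj_iff_of_nonDegenerate _ ⟨x, hx⟩ (n + 1)).1 h
  omega⟩

lemma bijective_counit_app (U : SSet.{u}) {i : ℕ} (hi : i ≤ n) :
    Function.Bijective (((SSet.skAdj n).counit.app U).app (op ⦋i⦌)) := by
  rw [← isIso_iff_bijective]
  have : IsIso ((SSet.truncation n).map ((SSet.skAdj n).counit.app U)) :=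
    IsIso.of_isIso_fac_left ((SSet.skAdj n).right_triangle_components U)
  exact (inferInstance : IsIso (((SSet.truncation n).map ((SSet.skAdj n).counit.app U)).app
    (op ⟨⦋i⦌, hi⟩)))

lemma app_mem_nonDegenerate (f : X ⟶ Y) (hf : ∀ i, i ≤ n → Function.Bijective (f.app (op ⦋i⦌)))
    {m : ℕ} (hm : m ≤ n) (x : X.nonDegenerate m) : f.app (op ⦋m⦌) x.1 ∈ Y.nonDegenerate m := by
  intro h
  obtain ⟨j, hj, φ, y, hy⟩ := h
  obtain ⟨z, rfl⟩ := (hf j (hj.le.trans hm)).2 y
  refine x.2 ⟨j, hj, φ, z, (hf m hm).1 ?_⟩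
  rw [← hy]
  exact NatTrans.naturality_apply f φ.op z

theorem mono_and_range (U : SSet.{u}) : Mono ((SSet.skAdj n).counit.app U) ∧
    SSet.Subcomplex.range ((SSet.skAdj n).counit.app U) = U.skeleton (n + 1) := by
  let S := (SSet.Truncated.sk n).obj ((SSet.truncation n).obj U)
  let ε : S ⟶ U := (SSet.skAdj n).counit.app U
  have := hasDimensionLT_sk ((SSet.truncation n).obj U)
  have hbij : ∀ i, i ≤ n → Function.Bijective (ε.app (op ⦋i⦌)) :=
    fun i hi => bijective_counit_app U hi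
  constructor
  · suffices ∀ (k : ℕ), Function.Injective (ε.app (op ⦋k⦌)) by
      have : ∀ Δ, Mono (ε.app Δ) := fun Δ => (CategoryTheory.mono_iff_injective _).2 (this Δ.unop.len)
      exact NatTrans.mono_of_mono_app ε
    intro k x y hxy
    obtain ⟨a, f, hf, x₀, hx⟩ := S.exists_nonDegenerate x
    obtain ⟨b, g, hg, y₀, hy⟩ := S.exists_nonDegenerate y
    have ha : a ≤ n := Nat.le_of_lt_succ (S.dim_lt_of_nonDegenerate x₀ (n + 1))
    have hb : b ≤ n := Nat.le_of_lt_succ (S.dim_lt_of_nonDegenerate y₀ (n + 1))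
    let x₁ : U.nonDegenerate a := ⟨_, app_mem_nonDegenerate ε hbij ha x₀⟩
    let y₁ : U.nonDegenerate b := ⟨_, app_mem_nonDegenerate ε hbij hb y₀⟩
    have hx₁ : ε.app (op ⦋k⦌) x = U.map f.op x₁.1 := by
      rw [hx]; exact NatTrans.naturality_apply ε f.op x₀.1
    have hy₁ : ε.app (op ⦋k⦌) x = U.map g.op y₁.1 := by
      rw [hxy, hy]; exact NatTrans.naturality_apply ε g.op y₀.1
    obtain rfl : a = b := U.unique_nonDegenerate_dim _ f x₁ hx₁ g y₁ hy₁
    obtain rfl : f = g := U.unique_nonDegenerate_map _ f x₁ hx₁ g y₁ hy₁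
    have e := congrArg Subtype.val (U.unique_nonDegenerate_simplex _ f x₁ hx₁ f y₁ hy₁)
    rw [hx, hy, (hbij a ha).1 e]
  · refine le_antisymm ?_ ?_
    · rintro ⟨⟨k⟩⟩ x hx
      obtain ⟨y, rfl⟩ := hx
      exact app_mem_skeleton ε k y
    · refine iSup₂_le fun i x => ?_
      rw [SSet.Subcomplex.ofSimplex_le_iff]
      obtain ⟨y, hy⟩ := (hbij i (Nat.le_of_lt_succ i.2)).2 x.1
      exact ⟨y, hy⟩

end Groth.Agent.SSetLib.SkelSet
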