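import Mathlib.AlgebraicTopology.MooreComplex
import Mathlib.AlgebraicTopology.DoldKan.Normalized
import Mathlib.AlgebraicTopology.DoldKan.Degeneracies
import Mathlib.AlgebraicTopology.SimplexCategory.Basic
import Mathlib.CategoryTheory.Subobject.Lattice
import Mathlib.CategoryTheory.FinCategory.Basic
import Mathlib.Data.Finite.Sigma

/-!
Subobjects generated in degrees `≤ n` and skeleta of simplicial objects of abelian categories.
-/

set_option autoImplicit false

universe v u

open CategoryTheory CategoryTheory.Limits Opposite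
open scoped Simplicial

namespace Groth.Agent.SSetLib.Skel

variable {A : Type u} [Category.{v} A] [Abelian A] {U : SimplicialObject A} {n : ℕ}

/-- The family `U'` is generated by the simplices in degrees `≤ n`. -/
def Generated (U : SimplicialObject A) (n : ℕ) (U' : ∀ m, Subobject (U.obj (op ⦋m⦌))) : Prop :=
  ∀ m : ℕ, IsLUB (Set.range (fun φ : Σ i : Fin (n + 1), (SimplexCategory.mk m ⟶
    SimplexCategory.mk i) => imageSubobject (U.map φ.2.op))) (U' m)

variable {U' : ∀ m, Subobject (U.obj (op ⦋m⦌))}

lemma Generated.image_le (hU' : Generated U n U') {m i : ℕ} (hi : i ≤ n) (φ : ⦋m⦌ ⟶ ⦋i⦌) :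
    imageSubobject (U.map φ.op) ≤ U' m :=
  (hU' m).1 ⟨⟨⟨i, Nat.lt_succ_of_le hi⟩, φ⟩, rfl⟩

lemma Generated.arrow_comp_eq_zero (hU' : Generated U n U') {m : ℕ} {Z : A}
    (g : U.obj (op ⦋m⦌) ⟶ Z)
    (h : ∀ (i : ℕ), i ≤ n → ∀ φ : ⦋m⦌ ⟶ ⦋i⦌, U.map φ.op ≫ g = 0) :
    (U' m).arrow ≫ g = 0 := by
  have hle : U' m ≤ kernelSubobject g := (hU' m).2 (by
    rintro S ⟨⟨i, φ⟩, rfl⟩
    have := h i (Nat.le_of_lt_succ i.2) φ
    exact imageSubobject_le _ (factorThruKernelSubobject g _ this)
      (factorThruKernelSubobject_comp_arrow _ _ _))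
  rw [← Subobject.ofLE_arrow hle, Category.assoc, kernelSubobject_arrow_comp, comp_zero]

lemma Generated.comp_cokernel (hU' : Generated U n U') {m i : ℕ} (hi : i ≤ n) (φ : ⦋m⦌ ⟶ ⦋i⦌) :
    U.map φ.op ≫ cokernel.π (U' m).arrow = 0 := by
  rw [← imageSubobject_arrow_comp (U.map φ.op),
    ← Subobject.ofLE_arrow (hU'.image_le hi φ), Category.assoc, Category.assoc,
    cokernel.condition, comp_zero, comp_zero]

lemma le_of_comp_cokernel {X Y : A} {f : X ⟶ Y} {S : Subobject Y}
    (h : f ≫ cokernel.π S.arrow = 0) : imageSubobject f ≤ S :=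
  imageSubobject_le f (Abelian.monoLift S.arrow f h) (Abelian.monoLift_comp _ _ _)

lemma Generated.map_le (hU' : Generated U n U') (m m' : ℕ) (ψ : ⦋m'⦌ ⟶ ⦋m⦌) :
    imageSubobject ((U' m).arrow ≫ U.map ψ.op) ≤ U' m' := by
  refine le_of_comp_cokernel ?_
  rw [Category.assoc]
  refine hU'.arrow_comp_eq_zero _ fun i hi φ => ?_
  rw [← Category.assoc, ← U.map_comp, ← op_comp]
  exact hU'.comp_cokernel hi _

lemma Generated.eq_top (hU' : Generated U n U') {i : ℕ} (hi : i ≤ n) : U' i = ⊤ := by
  refine top_le_iff.1 ((le_of_eq ?_).trans (hU'.image_le hi (𝟙 _)))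
  rw [op_id, U.map_id, imageSubobject_mono]
  exact (Subobject.top_eq_id _)

/-- The composite with `PInfty` kills the part generated in degrees `< m`. -/
lemma Generated.inf_objX_eq_bot (hU' : Generated U n U') {m : ℕ} (hm : n < m) :
    U' m ⊓ AlgebraicTopology.NormalizedMooreComplex.objX U m = ⊥ := by
  let S := U' m ⊓ AlgebraicTopology.NormalizedMooreComplex.objX U m
  have h1 : (U' m).arrow ≫ (AlgebraicTopology.DoldKan.PInfty (X := U)).f m = 0 :=
    hU'.arrow_comp_eq_zero _ fun i hi φ =>
      AlgebraicTopology.DoldKan.degeneracy_comp_PInfty U m φ fun h => by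
        have := SimplexCategory.le_of_mono φ
        omega
  have h2 : (AlgebraicTopology.NormalizedMooreComplex.objX U m).arrow ≫
      (AlgebraicTopology.DoldKan.PInfty (X := U)).f m =
      (AlgebraicTopology.NormalizedMooreComplex.objX U m).arrow := by
    have := HomologicalComplex.congr_hom
      (AlgebraicTopology.DoldKan.inclusionOfMooreComplexMap_comp_PInfty U) m
    exact this
  have h3 : S.arrow = 0 :=
    calc S.arrow = Subobject.ofLE S _ inf_le_right ≫
          (AlgebraicTopology.NormalizedMooreComplex.objX U m).arrow := by simp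
      _ = Subobject.ofLE S _ inf_le_right ≫
          ((AlgebraicTopology.NormalizedMooreComplex.objX U m).arrow ≫
            (AlgebraicTopology.DoldKan.PInfty (X := U)).f m) := by rw [h2]
      _ = S.arrow ≫ (AlgebraicTopology.DoldKan.PInfty (X := U)).f m := by
          rw [← Category.assoc, Subobject.ofLE_arrow]
      _ = Subobject.ofLE S _ inf_le_left ≫
          ((U' m).arrow ≫ (AlgebraicTopology.DoldKan.PInfty (X := U)).f m) := by
          rw [← Category.assoc, Subobject.ofLE_arrow]
      _ = 0 := by rw [h1, comp_zero]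
  show S = ⊥
  rw [← Subobject.mk_arrow S]
  exact Subobject.mk_eq_bot_iff_zero.2 h3

/-- The simplicial subobject attached to a family stable under the structure maps. -/
noncomputable def subObj (U' : ∀ m, Subobject (U.obj (op ⦋m⦌)))
    (h : ∀ m m' (ψ : ⦋m'⦌ ⟶ ⦋m⦌), imageSubobject ((U' m).arrow ≫ U.map ψ.op) ≤ U' m') :
    SimplicialObject A where
  obj Δ := (U' Δ.unop.len : A)
  map {Δ Δ'} f := factorThruImageSubobject ((U' Δ.unop.len).arrow ≫ U.map f) ≫
    Subobject.ofLE _ _ (h Δ.unop.len Δ'.unop.len f.unop)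
  map_id Δ := by
    rw [← cancel_mono (U' Δ.unop.len).arrow, Category.assoc, Subobject.ofLE_arrow,
      imageSubobject_arrow_comp]
    exact (congrArg ((U' Δ.unop.len).arrow ≫ ·) (U.map_id Δ)).trans (by simp)
  map_comp {Δ Δ' Δ''} f g := by
    rw [← cancel_mono (U' Δ''.unop.len).arrow]
    simp only [Category.assoc, Subobject.ofLE_arrow, imageSubobject_arrow_comp]
    rw [U.map_comp, ← Category.assoc (Subobject.ofLE _ _ _), Subobject.ofLE_arrow,
      imageSubobject_arrow_comp_assoc, Category.assoc]

/-- Its inclusion. -/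
noncomputable def subObjι (U' : ∀ m, Subobject (U.obj (op ⦋m⦌)))
    (h : ∀ m m' (ψ : ⦋m'⦌ ⟶ ⦋m⦌), imageSubobject ((U' m).arrow ≫ U.map ψ.op) ≤ U' m') :
    subObj U' h ⟶ U where
  app Δ := (U' Δ.unop.len).arrow
  naturality {Δ Δ'} f := by
    show (_ ≫ Subobject.ofLE _ _ _) ≫ (U' Δ'.unop.len).arrow = _
    rw [Category.assoc, Subobject.ofLE_arrow]
    exact imageSubobject_arrow_comp _

/-- Left Kan extensions along a truncation are pointwise: only finite colimits enter. -/
instance hasPointwiseLeftKanExtension (F : (SimplexCategory.Truncated n)ᵒᵖ ⥤ A) :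
    (SimplexCategory.Truncated.inclusion n).op.HasPointwiseLeftKanExtension F := fun Δ => by
  have : Finite (SimplexCategory.Truncated n)ᵒᵖ :=
    Finite.of_injective (fun Δ : (SimplexCategory.Truncated n)ᵒᵖ =>
      (⟨Δ.unop.obj.len, Nat.lt_succ_of_le Δ.unop.property⟩ : Fin (n + 1))) fun a b h =>
        Opposite.unop_injective (ObjectProperty.FullSubcategory.ext
          (SimplexCategory.ext (congrArg Fin.val h)))
  have : ∀ Y : (SimplexCategory.Truncated n)ᵒᵖ,
      Finite ((SimplexCategory.Truncated.inclusion n).op.obj Y ⟶ Δ) := fun Y =>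
    Finite.of_injective Quiver.Hom.unop Quiver.Hom.unop_inj
  have : Finite (CostructuredArrow (SimplexCategory.Truncated.inclusion n).op Δ) :=
    Finite.of_injective (fun f => (⟨f.left, f.hom⟩ : Σ Y : (SimplexCategory.Truncated n)ᵒᵖ,
      ((SimplexCategory.Truncated.inclusion n).op.obj Y ⟶ Δ))) fun a b h => by
        obtain ⟨a, ⟨⟩, f⟩ := a
        obtain ⟨b, ⟨⟩, g⟩ := b
        obtain ⟨rfl, h⟩ := Sigma.mk.inj_iff.1 h
        cases eq_of_heq h
        rfl
  have : ∀ f g : CostructuredArrow (SimplexCategory.Truncated.inclusion n).op Δ, Finite (f ⟶ g) :=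
    fun f g => Finite.of_injective (fun h => h.left.unop.hom) fun a b h =>
      CostructuredArrow.hom_ext _ _ (Quiver.Hom.unop_inj (ObjectProperty.hom_ext _ h))
  let := Fintype.ofFinite (CostructuredArrow (SimplexCategory.Truncated.inclusion n).op Δ)
  have : FinCategory (CostructuredArrow (SimplexCategory.Truncated.inclusion n).op Δ) :=
    { fintypeHom := fun f g => Fintype.ofFinite _ }
  exact inferInstanceAs (HasColimit _)

variable [∀ F : (SimplexCategory.Truncated n)ᵒᵖ ⥤ A,
  (SimplexCategory.Truncated.inclusion n).op.HasLeftKanExtension F]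

/-- A map out of a skeleton lands in the part generated in degrees `≤ n`. -/
lemma Generated.comp_cokernel_eq_zero (hU' : Generated U n U')
    {V : SimplicialObject.Truncated A n} (f : (SimplicialObject.Truncated.sk n).obj V ⟶ U)
    (m : ℕ) : f.app (op ⦋m⦌) ≫ cokernel.π (U' m).arrow = 0 := by
  let ι := subObjι U' hU'.map_le
  let tr := SimplicialObject.truncation (C := A) n
  have hι : IsIso (tr.map ι) := by
    have : ∀ Δ, IsIso ((tr.map ι).app Δ) := fun Δ => by
      show IsIso (U' Δ.unop.obj.len).arrow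
      rw [Subobject.isIso_arrow_iff_eq_top]
      exact hU'.eq_top Δ.unop.property
    exact NatIso.isIso_of_isIso_app _
  let adj := SimplicialObject.skAdj (C := A) n
  let g := (adj.homEquiv _ _).symm (adj.homEquiv _ _ f ≫ inv (tr.map ι))
  have hg : g ≫ ι = f := by
    rw [← adj.homEquiv_naturality_right_symm, Category.assoc, IsIso.inv_hom_id, Category.comp_id,
      Equiv.symm_apply_apply]
  rw [← hg, NatTrans.comp_app]
  show (_ ≫ (U' m).arrow) ≫ _ = 0
  rw [Category.assoc, cokernel.condition, comp_zero]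

lemma isIso_counit_app {i : ℕ} (hi : i ≤ n) (U : SimplicialObject A) :
    IsIso (((SimplicialObject.skAdj n).counit.app U).app (op ⦋i⦌)) := by
  let adj := SimplicialObject.skAdj (C := A) n
  have h := adj.right_triangle_components U
  have : IsIso ((SimplicialObject.truncation n).map (adj.counit.app U)) := by
    have : IsIso (adj.unit.app ((SimplicialObject.truncation n).obj U)) :=
      have : IsIso adj.unit := SimplicialObject.Truncated.sk_coreflective n
      inferInstance
    exact IsIso.of_isIso_fac_left h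
  exact (inferInstance : IsIso (((SimplicialObject.truncation n).map (adj.counit.app U)).app
    (op ⟨⦋i⦌, hi⟩)))

/-- Skeleta are generated in degrees `≤ n`. -/
lemma eq_top_of_sk (V : SimplicialObject.Truncated A n)
    {U' : ∀ m, Subobject (((SimplicialObject.Truncated.sk n).obj V).obj (op ⦋m⦌))}
    (hU' : Generated ((SimplicialObject.Truncated.sk n).obj V) n U') (m : ℕ) : U' m = ⊤ := by
  have h := hU'.comp_cokernel_eq_zero (𝟙 _) m
  rw [NatTrans.id_app, Category.id_comp] at h
  rw [← Subobject.isIso_arrow_iff_eq_top]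
  have : Epi (U' m).arrow := Abelian.epi_of_cokernel_π_eq_zero _ h
  exact isIso_of_mono_of_epi _

/-- The subobjects generated in degrees `≤ n`. -/
noncomputable def gen (U : SimplicialObject A) (n m : ℕ) : Subobject (U.obj (op ⦋m⦌)) :=
  have := Fintype.ofFinite (Σ i : Fin (n + 1), (SimplexCategory.mk m ⟶ SimplexCategory.mk i))
  Finset.univ.sup (fun φ : Σ i : Fin (n + 1), (SimplexCategory.mk m ⟶ SimplexCategory.mk i) =>
    imageSubobject (U.map φ.2.op))

omit [∀ F : (SimplexCategory.Truncated n)ᵒᵖ ⥤ A,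
  (SimplexCategory.Truncated.inclusion n).op.HasLeftKanExtension F] in
lemma generated_gen (U : SimplicialObject A) : Generated U n (gen U n) := fun m =>
  letI := Fintype.ofFinite (Σ i : Fin (n + 1), (SimplexCategory.mk m ⟶ SimplexCategory.mk i))
  ⟨by
    rintro S ⟨φ, rfl⟩
    exact Finset.le_sup (f := fun φ : Σ i : Fin (n + 1), (SimplexCategory.mk m ⟶
      SimplexCategory.mk i) => imageSubobject (U.map φ.2.op)) (Finset.mem_univ φ),
   fun S hS => Finset.sup_le fun φ _ => hS ⟨φ, rfl⟩⟩

theorem objX_sk_eq_bot (V : SimplicialObject.Truncated A n) {m : ℕ} (hm : n < m) :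
    AlgebraicTopology.NormalizedMooreComplex.objX ((SimplicialObject.Truncated.sk n).obj V) m =
      ⊥ := by
  have h := (generated_gen ((SimplicialObject.Truncated.sk n).obj V) (n := n)).inf_objX_eq_bot hm
  rwa [eq_top_of_sk V (generated_gen _) m, top_inf_eq] at h

theorem mono_counit_app (U : SimplicialObject A) (m : ℕ) :
    Mono (((SimplicialObject.skAdj n).counit.app U).app (op ⦋m⦌)) := by
  let ε := (SimplicialObject.skAdj n).counit.app U
  induction m with
  | zero =>
    have := isIso_counit_app (n := n) (Nat.zero_le n) U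
    infer_instance
  | succ k ih =>
    by_cases hk : k + 1 ≤ n
    · have := isIso_counit_app hk U
      infer_instance
    refine Preadditive.mono_of_cancel_zero _ fun {T} x hx => ?_
    let S := (SimplicialObject.Truncated.sk n).obj ((SimplicialObject.truncation n).obj U)
    have hδ : ∀ j : Fin (k + 2), x ≫ S.δ j = 0 := fun j => by
      rw [← cancel_mono (ε.app (op ⦋k⦌)), zero_comp, Category.assoc, SimplicialObject.δ_naturality,
        ← Category.assoc, hx, zero_comp]
    have hfac : (AlgebraicTopology.NormalizedMooreComplex.objX S (k + 1)).Factors x := by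
      rw [AlgebraicTopology.NormalizedMooreComplex.objX_add_one, Subobject.finset_inf_factors]
      exact fun j _ => kernelSubobject_factors _ _ (hδ j.succ)
    have hb : AlgebraicTopology.NormalizedMooreComplex.objX S (k + 1) = ⊥ :=
      objX_sk_eq_bot _ (not_le.1 hk)
    rw [hb] at hfac
    exact (Subobject.bot_factors_iff_zero x).1 hfac

theorem imageSubobject_counit_app (hU' : Generated U n U') (m : ℕ) :
    imageSubobject (((SimplicialObject.skAdj n).counit.app U).app (op ⦋m⦌)) = U' m := by
  let ε := (SimplicialObject.skAdj n).counit.app U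
  refine le_antisymm (le_of_comp_cokernel (hU'.comp_cokernel_eq_zero ε m)) ((hU' m).2 ?_)
  rintro S ⟨⟨i, φ⟩, rfl⟩
  have := isIso_counit_app (Nat.le_of_lt_succ i.2) U
  refine imageSubobject_le _ (inv (ε.app (op ⦋(i : ℕ)⦌)) ≫
    ((SimplicialObject.Truncated.sk n).obj _).map φ.op ≫ factorThruImageSubobject _) ?_
  simp only [Category.assoc, imageSubobject_arrow_comp]
  exact (congrArg (inv (ε.app (op ⦋(i : ℕ)⦌)) ≫ ·) (ε.naturality φ.op)).trans
    (IsIso.inv_hom_id_assoc _ _)

end Groth.Agent.SSetLib.Skel
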