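import Mathlib.Algebra.Homology.QuasiIso
import Mathlib.Algebra.Homology.ShortComplex.Ab

/-!
Element criteria for homology of chain complexes of abelian groups.
-/

set_option autoImplicit false

open CategoryTheory CategoryTheory.Limits

universe u

namespace Groth.Agent.SSetLib.AbCx

variable {K L : ChainComplex AddCommGrpCat.{u} ℕ} {n : ℕ}

/-- Cycles, as elements. -/
def IsCyc (z : K.X n) : Prop := K.d n ((ComplexShape.down ℕ).next n) z = 0

/-- Boundaries, as elements. -/
def IsBd (z : K.X n) : Prop := ∃ c : K.X (n + 1), K.d (n + 1) n c = z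

lemma isCyc_zero (z : K.X 0) : IsCyc z := by
  rw [IsCyc, show K.d 0 _ = 0 from K.shape _ _ (by simp)]
  rfl

lemma isCyc_succ {z : K.X (n + 1)} : IsCyc z ↔ K.d (n + 1) n z = 0 := by
  rw [IsCyc, ChainComplex.next_nat_succ]

lemma exists_cycle {z : K.X n} (hz : IsCyc z) : ∃ c : K.cycles n, K.iCycles n c = z :=
  ⟨(K.sc n).abCyclesIso.inv ⟨z, hz⟩, (K.sc n).abCyclesIso_inv_apply_iCycles ⟨z, hz⟩⟩

lemma iCycles_injective : Function.Injective (K.iCycles n) :=
  (AddCommGrpCat.mono_iff_injective _).mp inferInstance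

lemma isCyc_iCycles (c : K.cycles n) : IsCyc (K.iCycles n c) :=
  ConcreteCategory.congr_hom (K.iCycles_d n _) c

lemma homologyπ_eq_zero_iff (c : K.cycles n) : K.homologyπ n c = 0 ↔ IsBd (K.iCycles n c) := by
  have hS : (ShortComplex.mk (K.toCycles (n + 1) n) (K.homologyπ n)
      (K.toCycles_comp_homologyπ _ _)).Exact :=
    ShortComplex.exact_of_g_is_cokernel _ (K.homologyIsCokernel (n + 1) n (by simp))
  constructor
  · intro h
    obtain ⟨b, hb⟩ := (ShortComplex.ab_exact_iff _).mp hS c h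
    exact ⟨b, (ConcreteCategory.congr_hom (K.toCycles_i (n + 1) n) b).symm.trans
      (congrArg (K.iCycles n) hb)⟩
  · rintro ⟨b, hb⟩
    obtain rfl : K.toCycles (n + 1) n b = c :=
      iCycles_injective ((ConcreteCategory.congr_hom (K.toCycles_i (n + 1) n) b).trans hb)
    exact ConcreteCategory.congr_hom (K.toCycles_comp_homologyπ (n + 1) n) b

lemma homologyπ_surjective : Function.Surjective (K.homologyπ n) :=
  (AddCommGrpCat.epi_iff_surjective _).mp inferInstance

lemma homologyMap_π (φ : K ⟶ L) (c : K.cycles n) :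
    HomologicalComplex.homologyMap φ n (K.homologyπ n c) =
      L.homologyπ n (HomologicalComplex.cyclesMap φ n c) :=
  ConcreteCategory.congr_hom (HomologicalComplex.homologyπ_naturality φ n) c

lemma iCycles_cyclesMap (φ : K ⟶ L) (c : K.cycles n) :
    L.iCycles n (HomologicalComplex.cyclesMap φ n c) = φ.f n (K.iCycles n c) :=
  ConcreteCategory.congr_hom (HomologicalComplex.cyclesMap_i φ n) c

lemma isBd_of_quasiIsoAt (φ : K ⟶ L) [QuasiIsoAt φ n] {z : K.X n} (hz : IsCyc z)
    (h : IsBd (φ.f n z)) : IsBd z := by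
  obtain ⟨c, rfl⟩ := exists_cycle hz
  rw [← iCycles_cyclesMap, ← homologyπ_eq_zero_iff, ← homologyMap_π] at h
  refine (homologyπ_eq_zero_iff c).mp
    ((AddCommGrpCat.mono_iff_injective (HomologicalComplex.homologyMap φ n)).mp inferInstance
      (h.trans (map_zero _).symm))

lemma exists_cyc_of_quasiIsoAt (φ : K ⟶ L) [QuasiIsoAt φ n] {w : L.X n} (hw : IsCyc w) :
    ∃ z : K.X n, IsCyc z ∧ IsBd (w - φ.f n z) := by
  obtain ⟨e, rfl⟩ := exists_cycle hw
  obtain ⟨h, hh⟩ := (AddCommGrpCat.epi_iff_surjective (HomologicalComplex.homologyMap φ n)).mp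
    inferInstance (L.homologyπ n e)
  obtain ⟨c, rfl⟩ := homologyπ_surjective h
  refine ⟨_, isCyc_iCycles c, ?_⟩
  rw [← iCycles_cyclesMap, ← map_sub, ← homologyπ_eq_zero_iff, map_sub, ← homologyMap_π, hh,
    sub_self]

lemma quasiIsoAt_of (φ : K ⟶ L) (hi : ∀ z : K.X n, IsCyc z → IsBd (φ.f n z) → IsBd z)
    (hs : ∀ w : L.X n, IsCyc w → ∃ z : K.X n, IsCyc z ∧ IsBd (w - φ.f n z)) :
    QuasiIsoAt φ n := by
  rw [quasiIsoAt_iff_isIso_homologyMap, ConcreteCategory.isIso_iff_bijective]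
  constructor
  · rw [injective_iff_map_eq_zero]
    intro h hh
    obtain ⟨c, rfl⟩ := homologyπ_surjective h
    rw [homologyMap_π, homologyπ_eq_zero_iff, iCycles_cyclesMap] at hh
    exact (homologyπ_eq_zero_iff c).mpr (hi _ (isCyc_iCycles c) hh)
  · intro h
    obtain ⟨e, rfl⟩ := homologyπ_surjective h
    obtain ⟨z, hz, hb⟩ := hs _ (isCyc_iCycles e)
    obtain ⟨c, rfl⟩ := exists_cycle hz
    refine ⟨K.homologyπ n c, ?_⟩
    rw [← iCycles_cyclesMap, ← map_sub, ← homologyπ_eq_zero_iff, map_sub, sub_eq_zero] at hb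
    rw [homologyMap_π, hb]

end Groth.Agent.SSetLib.AbCx
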