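import Mathlib.AlgebraicTopology.SimplicialSet.KanComplex
import Mathlib.Algebra.Category.Grp.Basic
import Mathlib.Algebra.Group.Subgroup.Basic

/-!
Moore's algorithm filling horns in simplicial groups.
-/

set_option autoImplicit false

open CategoryTheory Opposite Simplicial

universe u

namespace Groth.Agent.SSetLib

/-- Moore's horn filler, stated for three consecutive degrees of a simplicial group, relative to
subgroups stable under the simplicial operations. -/
@[to_additive exists_addFill]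
theorem exists_fill {A B C : Type*} [Group A] [Group B] [Group C] {n : ℕ}
    (d : Fin (n + 3) → A →* B) (e : Fin (n + 2) → B →* C) (s : Fin (n + 2) → B →* A)
    (t : Fin (n + 1) → C →* B)
    (h₁ : ∀ j x, d j.castSucc (s j x) = x) (h₂ : ∀ j x, d j.succ (s j x) = x)
    (h₃ : ∀ (i : Fin (n + 2)) (j : Fin (n + 1)), i ≤ j.castSucc →
      ∀ x, d i.castSucc (s j.succ x) = t j (e i x))
    (h₄ : ∀ (i : Fin (n + 2)) (j : Fin (n + 1)), j.castSucc < i →
      ∀ x, d i.succ (s j.castSucc x) = t j (e i x))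
    (h₅ : ∀ (i j : Fin (n + 2)), i ≤ j → ∀ x, e i (d j.succ x) = e j (d i.castSucc x))
    (S : Subgroup A) (T : Subgroup B) (hdS : ∀ j, ∀ x ∈ S, d j x ∈ T) (hsT : ∀ j, ∀ x ∈ T, s j x ∈ S)
    (k : Fin (n + 3)) (y : Fin (n + 3) → B) (hyT : ∀ r, r ≠ k → y r ∈ T)
    (hy : ∀ (i j : Fin (n + 2)), i ≤ j → i.castSucc ≠ k → j.succ ≠ k →
      e i (y j.succ) = e j (y i.castSucc)) :
    ∃ g ∈ S, ∀ r, r ≠ k → d r g = y r := by
  have low : ∀ l, l ≤ (k : ℕ) → ∃ g ∈ S, ∀ r : Fin (n + 3), (r : ℕ) < l → d r g = y r := by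
    intro l
    induction l with
    | zero => exact fun _ => ⟨1, S.one_mem, fun r hr => absurd hr (Nat.not_lt_zero _)⟩
    | succ l ih =>
      intro hl
      obtain ⟨g, hgS, hg⟩ := ih (by omega)
      obtain ⟨p, hp⟩ : ∃ p : Fin (n + 2), (p : ℕ) = l := ⟨⟨l, by omega⟩, rfl⟩
      refine ⟨g * s p ((d p.castSucc g)⁻¹ * y p.castSucc), S.mul_mem hgS (hsT _ _ (T.mul_mem
        (T.inv_mem (hdS _ _ hgS)) (hyT _ (fun h => by simp [← h, hp] at hl)))), fun r hr => ?_⟩
      rw [map_mul]
      rcases (Nat.lt_succ_iff.mp hr).lt_or_eq with hlt | heq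
      · obtain ⟨i, rfl⟩ : ∃ i : Fin (n + 2), r = i.castSucc := ⟨⟨r, by omega⟩, rfl⟩
        obtain ⟨j, rfl⟩ : ∃ j : Fin (n + 1), p = j.succ := by
          simp only [Fin.val_castSucc] at hlt
          exact ⟨⟨p - 1, by omega⟩, Fin.ext (by simp; omega)⟩
        simp only [Fin.val_castSucc, Fin.val_succ] at hlt hp hl
        have hij : i ≤ j.castSucc := by simp only [Fin.le_def, Fin.val_castSucc]; omega
        rw [h₃ i j hij, hg _ (by simpa using hlt), map_mul, map_inv]
        rw [← Fin.succ_castSucc, h₅ i j.castSucc hij, hg _ (by simpa using hlt),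
          hy i j.castSucc hij (fun h => by simp [← h] at hl; omega)
            (fun h => by simp [← h] at hl; omega), inv_mul_cancel, map_one, mul_one]
      · obtain rfl : r = p.castSucc := Fin.ext (by simp [heq, hp])
        rw [h₁, mul_inv_cancel_left]
  have high : ∀ l, ∃ g ∈ S, (∀ r, r < k → d r g = y r) ∧
      ∀ r : Fin (n + 3), k < r → n + 3 ≤ (r : ℕ) + l → d r g = y r := by
    intro l
    induction l with
    | zero =>
      obtain ⟨g, hgS, hg⟩ := low k le_rfl
      exact ⟨g, hgS, fun r hr => hg r hr, fun r _ hr => absurd hr (by omega)⟩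
    | succ l ih =>
      obtain ⟨g, hgS, hgl, hgh⟩ := ih
      by_cases hl : (k : ℕ) + l + 1 < n + 3
      · obtain ⟨p, hp⟩ : ∃ p : Fin (n + 2), (p : ℕ) + l + 2 = n + 3 :=
          ⟨⟨n + 1 - l, by omega⟩, by simp only; omega⟩
        refine ⟨g * s p ((d p.succ g)⁻¹ * y p.succ), S.mul_mem hgS (hsT _ _ (T.mul_mem
          (T.inv_mem (hdS _ _ hgS)) (hyT _ (fun h => by simp [← h] at hl; omega)))),
          fun r hr => ?_, fun r hr hr' => ?_⟩
        · rw [map_mul, hgl r hr]
          have hr0 : (r : ℕ) < p := by rw [Fin.lt_def] at hr; omega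
          obtain ⟨i, rfl⟩ : ∃ i : Fin (n + 2), r = i.castSucc := ⟨⟨r, by omega⟩, rfl⟩
          obtain ⟨j, rfl⟩ : ∃ j : Fin (n + 1), p = j.succ :=
            ⟨⟨p - 1, by omega⟩, Fin.ext (by simp; omega)⟩
          simp only [Fin.val_castSucc, Fin.val_succ] at hr0 hp
          have hij : i ≤ j.castSucc := by simp only [Fin.le_def, Fin.val_castSucc]; omega
          have hij' : i ≤ j.succ := by simp only [Fin.le_def, Fin.val_succ]; omega
          rw [h₃ i j hij, map_mul, map_inv, h₅ i j.succ hij', hgl _ hr,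
            hy i j.succ hij' hr.ne (fun h => by simp [← h] at hl; omega),
            inv_mul_cancel, map_one, mul_one]
        · rw [map_mul]
          rcases (show (p : ℕ) + 1 ≤ r by omega).lt_or_eq with hlt | heq
          · obtain ⟨i, rfl⟩ : ∃ i : Fin (n + 2), r = i.succ :=
              ⟨⟨r - 1, by omega⟩, Fin.ext (by simp; omega)⟩
            simp only [Fin.val_succ] at hlt hr'
            obtain ⟨j, rfl⟩ : ∃ j : Fin (n + 1), p = j.castSucc := ⟨⟨p, by omega⟩, rfl⟩
            simp only [Fin.val_castSucc] at hlt hp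
            have hji : j.castSucc < i := by simp only [Fin.lt_def, Fin.val_castSucc]; omega
            have hji' : j.succ ≤ i := by simp only [Fin.le_def, Fin.val_succ]; omega
            rw [h₄ i j hji, map_mul, map_inv, hgh _ hr (by simp; omega), Fin.succ_castSucc,
              ← h₅ j.succ i hji', hgh _ hr (by simp; omega),
              ← hy j.succ i hji' (fun h => by simp [← h] at hl; omega) hr.ne',
              inv_mul_cancel, map_one, mul_one]
          · obtain rfl : r = p.succ := Fin.ext (by simp; omega)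
            rw [h₂, mul_inv_cancel_left]
      · exact ⟨g, hgS, hgl, fun r hr hr' => hgh r hr (by rw [Fin.lt_def] at hr; omega)⟩
  obtain ⟨g, hgS, hgl, hgh⟩ := high (n + 3)
  exact ⟨g, hgS, fun r hr => hr.lt_or_gt.elim (hgl r) (fun h => hgh r h (by omega))⟩

end Groth.Agent.SSetLib
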